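import Cfsg.Agent.H167.KKL.DefsE8
import Cfsg.Agent.H798.KKL.P1
import Cfsg.Agent.Nodes.TyCox

/-!
# S4546, row `E₈(q)`, box P3 (helper387): residual involutions with `(f, g)` nonzero on the roots of `J`

`J = {i : w a_i = -a_i}`. For every subset `J` other than `∅` and the `D4` there is one witness: four nodes of `J` on a path (`A`),
a certificate `(j, d, r)` with `d` not dividing `r` (`B`), or a certificate `(j, 1, r)` with `r = a_i` modulo 2 (`C`).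
-/

set_option autoImplicit false
set_option maxRecDepth 100000

namespace Cfsg.Agent.H387.KKL

open CoxeterSystem Cfsg Cfsg.Lie Cfsg.Lie.ChevalleyDatum
open Cfsg.Agent.ChevalleyStructure Cfsg.Agent.ChevalleyStructure.Elts Cfsg.Agent.ChevalleyStructure.CoxeterGeom
  Cfsg.Agent.ChevalleyStructure.CoxeterGeomTypes Cfsg.Agent.ChevalleyStructure.NPerm
open Cfsg.Agent.Tits.Roots Cfsg.Agent.Tits.Core Cfsg.Agent.Nodes Cfsg.Agent.Nodes.Reps Cfsg.Agent.Nodes.BNOf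
  Cfsg.Agent.Nodes.RGDChev Cfsg.Agent.Nodes.Bruhat Cfsg.Agent.Nodes.NormalForm
open Cfsg.Agent.H167.KKL

/-- witnesses -/
inductive Wt
  | A (p q r s : Fin 8)
  | B (j : Fin 8) (d : ℤ) (r : List ℤ) (i : Fin 8)
  | C (j : Fin 8) (r : List ℤ) (i : Fin 8)
  | Z

/-- the witnesses of the 256 subsets -/
def tab : List Wt := [
  .Z, .C 2 [0, 0, 0, 0, 0, 0, 0, 0] 0, .C 3 [0, 0, 0, 0, 0, 0, 0, 0] 1, .C 2 [0, 0, 0, 0, 0, 0, 0, 0] 0,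
  .C 0 [0, 0, 0, 0, 0, 0, 0, 0] 2, .B 3 3 [2, 0, 4, 0, 0, 0, 0, 0] 0, .C 0 [0, 0, 0, 0, 0, 0, 0, 0] 2,
  .B 3 3 [2, 3, 4, 0, 0, 0, 0, 0] 0, .C 1 [0, 0, 0, 0, 0, 0, 0, 0] 3, .C 1 [0, 0, 0, 0, 0, 0, 0, 0] 3,
  .B 2 3 [0, 2, 0, 4, 0, 0, 0, 0] 1, .B 2 3 [3, 2, 0, 4, 0, 0, 0, 0] 1, .B 0 3 [0, 0, 4, 2, 0, 0, 0, 0] 2,
  .B 1 2 [1, 0, 2, 3, 0, 0, 0, 0] 0, .B 0 2 [0, 1, 3, 2, 0, 0, 0, 0] 1, .A 0 2 3 1,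
  .C 3 [0, 0, 0, 0, 0, 0, 0, 0] 4, .C 2 [0, 0, 0, 0, 0, 0, 0, 0] 0, .C 5 [0, 0, 0, 0, 0, 0, 0, 0] 4,
  .C 2 [0, 0, 0, 0, 0, 0, 0, 0] 0, .C 0 [0, 0, 0, 0, 0, 0, 0, 0] 2, .B 3 3 [2, 0, 4, 0, 3, 0, 0, 0] 0,
  .C 0 [0, 0, 0, 0, 0, 0, 0, 0] 2, .B 3 3 [2, 3, 4, 0, 3, 0, 0, 0] 0, .B 1 3 [0, 0, 0, 4, 2, 0, 0, 0] 3,
  .B 1 3 [0, 0, 0, 4, 2, 0, 0, 0] 3, .B 5 2 [0, 1, 0, 2, 3, 0, 0, 0] 1, .B 5 2 [0, 1, 0, 2, 3, 0, 0, 0] 1,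
  .B 0 2 [0, 0, 3, 2, 1, 0, 0, 0] 2, .A 0 2 3 4, .Z, .A 0 2 3 1, .C 4 [0, 0, 0, 0, 0, 0, 0, 0] 5,
  .C 2 [0, 0, 0, 0, 0, 0, 0, 0] 0, .C 3 [0, 0, 0, 0, 0, 0, 0, 0] 1, .C 2 [0, 0, 0, 0, 0, 0, 0, 0] 0,
  .C 0 [0, 0, 0, 0, 0, 0, 0, 0] 2, .B 3 3 [2, 0, 4, 0, 0, 0, 0, 0] 0, .C 0 [0, 0, 0, 0, 0, 0, 0, 0] 2,
  .B 3 3 [2, 3, 4, 0, 0, 0, 0, 0] 0, .C 1 [0, 0, 0, 0, 0, 0, 0, 0] 3, .C 1 [0, 0, 0, 0, 0, 0, 0, 0] 3,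
  .B 2 3 [0, 2, 0, 4, 0, 0, 0, 0] 1, .B 2 3 [3, 2, 0, 4, 0, 0, 0, 0] 1, .B 0 3 [0, 0, 4, 2, 0, 0, 0, 0] 2,
  .B 1 2 [1, 0, 2, 3, 0, 0, 0, 0] 0, .B 0 2 [0, 1, 3, 2, 0, 0, 0, 0] 1, .A 0 2 3 1,
  .B 3 3 [0, 0, 0, 0, 4, 2, 0, 0] 4, .B 3 3 [0, 0, 0, 0, 4, 2, 0, 0] 4, .B 3 3 [0, 3, 0, 0, 4, 2, 0, 0] 4,
  .B 3 3 [0, 3, 0, 0, 4, 2, 0, 0] 4, .B 3 3 [0, 0, 3, 0, 4, 2, 0, 0] 4, .B 3 3 [2, 0, 4, 0, 4, 2, 0, 0] 0,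
  .B 3 3 [0, 3, 3, 0, 4, 2, 0, 0] 4, .B 3 3 [2, 3, 4, 0, 4, 2, 0, 0] 0, .B 1 2 [0, 0, 0, 3, 2, 1, 0, 0] 3,
  .B 1 2 [0, 0, 0, 3, 2, 1, 0, 0] 3, .A 1 3 4 5, .A 1 3 4 5, .A 2 3 4 5, .A 0 2 3 4, .A 1 3 4 5, .A 0 2 3 1,
  .C 5 [0, 0, 0, 0, 0, 0, 0, 0] 6, .C 2 [0, 0, 0, 0, 0, 0, 0, 0] 0, .C 3 [0, 0, 0, 0, 0, 0, 0, 0] 1,
  .C 2 [0, 0, 0, 0, 0, 0, 0, 0] 0, .C 0 [0, 0, 0, 0, 0, 0, 0, 0] 2, .B 3 3 [2, 0, 4, 0, 0, 0, 0, 0] 0,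
  .C 0 [0, 0, 0, 0, 0, 0, 0, 0] 2, .B 3 3 [2, 3, 4, 0, 0, 0, 0, 0] 0, .C 1 [0, 0, 0, 0, 0, 0, 0, 0] 3,
  .C 1 [0, 0, 0, 0, 0, 0, 0, 0] 3, .B 2 3 [0, 2, 0, 4, 0, 0, 0, 0] 1, .B 2 3 [3, 2, 0, 4, 0, 0, 0, 0] 1,
  .B 0 3 [0, 0, 4, 2, 0, 0, 0, 0] 2, .B 1 2 [1, 0, 2, 3, 0, 0, 0, 0] 0, .B 0 2 [0, 1, 3, 2, 0, 0, 0, 0] 1,
  .A 0 2 3 1, .C 3 [0, 0, 0, 0, 0, 0, 0, 0] 4, .C 2 [0, 0, 0, 0, 0, 0, 0, 0] 0, .C 7 [0, 0, 0, 0, 0, 0, 0, 0] 6,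
  .C 2 [0, 0, 0, 0, 0, 0, 0, 0] 0, .C 0 [0, 0, 0, 0, 0, 0, 0, 0] 2, .B 3 3 [2, 0, 4, 0, 3, 0, 0, 0] 0,
  .C 0 [0, 0, 0, 0, 0, 0, 0, 0] 2, .B 3 3 [2, 3, 4, 0, 3, 0, 0, 0] 0, .B 1 3 [0, 0, 0, 4, 2, 0, 0, 0] 3,
  .B 1 3 [0, 0, 0, 4, 2, 0, 0, 0] 3, .B 5 2 [0, 1, 0, 2, 3, 0, 2, 0] 1, .B 5 2 [0, 1, 0, 2, 3, 0, 2, 0] 1,
  .B 0 2 [0, 0, 3, 2, 1, 0, 0, 0] 2, .A 0 2 3 4, .C 7 [0, 0, 0, 0, 0, 0, 0, 0] 6, .A 0 2 3 1,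
  .B 4 3 [0, 0, 0, 0, 0, 4, 2, 0] 5, .B 4 3 [0, 0, 0, 0, 0, 4, 2, 0] 5, .B 4 3 [0, 0, 0, 0, 0, 4, 2, 0] 5,
  .B 4 3 [0, 0, 0, 0, 0, 4, 2, 0] 5, .B 4 3 [0, 0, 0, 0, 0, 4, 2, 0] 5, .B 3 3 [2, 0, 4, 0, 0, 0, 0, 0] 0,
  .B 4 3 [0, 0, 0, 0, 0, 4, 2, 0] 5, .B 3 3 [2, 3, 4, 0, 0, 0, 0, 0] 0, .B 4 3 [0, 0, 0, 3, 0, 4, 2, 0] 5,
  .B 4 3 [0, 0, 0, 3, 0, 4, 2, 0] 5, .B 2 3 [0, 2, 0, 4, 0, 0, 0, 0] 1, .B 2 3 [3, 2, 0, 4, 0, 0, 0, 0] 1,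
  .B 0 3 [0, 0, 4, 2, 0, 0, 0, 0] 2, .B 1 2 [1, 0, 2, 3, 0, 0, 0, 0] 0, .B 0 2 [0, 1, 3, 2, 0, 0, 0, 0] 1,
  .A 0 2 3 1, .B 3 2 [0, 0, 0, 0, 3, 2, 1, 0] 4, .B 3 2 [0, 0, 0, 0, 3, 2, 1, 0] 4,
  .B 3 2 [0, 2, 0, 0, 3, 2, 1, 0] 4, .B 3 2 [0, 2, 0, 0, 3, 2, 1, 0] 4, .B 3 2 [0, 0, 2, 0, 3, 2, 1, 0] 4,
  .B 3 6 [4, 0, 8, 0, 9, 6, 3, 0] 0, .B 3 2 [0, 2, 2, 0, 3, 2, 1, 0] 4, .B 3 6 [4, 6, 8, 0, 9, 6, 3, 0] 0,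
  .A 3 4 5 6, .A 3 4 5 6, .A 1 3 4 5, .A 1 3 4 5, .A 2 3 4 5, .A 0 2 3 4, .A 1 3 4 5, .A 0 2 3 1,
  .C 6 [0, 0, 0, 0, 0, 0, 0, 0] 7, .C 2 [0, 0, 0, 0, 0, 0, 0, 0] 0, .C 3 [0, 0, 0, 0, 0, 0, 0, 0] 1,
  .C 2 [0, 0, 0, 0, 0, 0, 0, 0] 0, .C 0 [0, 0, 0, 0, 0, 0, 0, 0] 2, .B 3 3 [2, 0, 4, 0, 0, 0, 0, 0] 0,
  .C 0 [0, 0, 0, 0, 0, 0, 0, 0] 2, .B 3 3 [2, 3, 4, 0, 0, 0, 0, 0] 0, .C 1 [0, 0, 0, 0, 0, 0, 0, 0] 3,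
  .C 1 [0, 0, 0, 0, 0, 0, 0, 0] 3, .B 2 3 [0, 2, 0, 4, 0, 0, 0, 0] 1, .B 2 3 [3, 2, 0, 4, 0, 0, 0, 0] 1,
  .B 0 3 [0, 0, 4, 2, 0, 0, 0, 0] 2, .B 1 2 [1, 0, 2, 3, 0, 0, 0, 0] 0, .B 0 2 [0, 1, 3, 2, 0, 0, 0, 0] 1,
  .A 0 2 3 1, .C 3 [0, 0, 0, 0, 0, 0, 0, 0] 4, .C 2 [0, 0, 0, 0, 0, 0, 0, 0] 0, .C 5 [0, 0, 0, 0, 0, 0, 0, 0] 4,
  .C 2 [0, 0, 0, 0, 0, 0, 0, 0] 0, .C 0 [0, 0, 0, 0, 0, 0, 0, 0] 2, .B 3 3 [2, 0, 4, 0, 3, 0, 0, 0] 0,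
  .C 0 [0, 0, 0, 0, 0, 0, 0, 0] 2, .B 3 3 [2, 3, 4, 0, 3, 0, 0, 0] 0, .B 1 3 [0, 0, 0, 4, 2, 0, 0, 0] 3,
  .B 1 3 [0, 0, 0, 4, 2, 0, 0, 0] 3, .B 5 2 [0, 1, 0, 2, 3, 0, 0, 0] 1, .B 5 2 [0, 1, 0, 2, 3, 0, 0, 0] 1,
  .B 0 2 [0, 0, 3, 2, 1, 0, 0, 0] 2, .A 0 2 3 4, .C 6 [0, 0, 0, 0, 0, 0, 0, 0] 7, .A 0 2 3 1,
  .C 4 [0, 0, 0, 0, 0, 0, 0, 0] 5, .C 2 [0, 0, 0, 0, 0, 0, 0, 0] 0, .C 3 [0, 0, 0, 0, 0, 0, 0, 0] 1,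
  .C 2 [0, 0, 0, 0, 0, 0, 0, 0] 0, .C 0 [0, 0, 0, 0, 0, 0, 0, 0] 2, .B 3 3 [2, 0, 4, 0, 0, 0, 0, 0] 0,
  .C 0 [0, 0, 0, 0, 0, 0, 0, 0] 2, .B 3 3 [2, 3, 4, 0, 0, 0, 0, 0] 0, .C 1 [0, 0, 0, 0, 0, 0, 0, 0] 3,
  .C 1 [0, 0, 0, 0, 0, 0, 0, 0] 3, .B 2 3 [0, 2, 0, 4, 0, 0, 0, 0] 1, .B 2 3 [3, 2, 0, 4, 0, 0, 0, 0] 1,
  .B 0 3 [0, 0, 4, 2, 0, 0, 0, 0] 2, .B 1 2 [1, 0, 2, 3, 0, 0, 0, 0] 0, .B 0 2 [0, 1, 3, 2, 0, 0, 0, 0] 1,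
  .A 0 2 3 1, .B 3 3 [0, 0, 0, 0, 4, 2, 0, 0] 4, .B 3 3 [0, 0, 0, 0, 4, 2, 0, 0] 4,
  .B 3 3 [0, 3, 0, 0, 4, 2, 0, 0] 4, .B 3 3 [0, 3, 0, 0, 4, 2, 0, 0] 4, .B 3 3 [0, 0, 3, 0, 4, 2, 0, 0] 4,
  .B 3 3 [2, 0, 4, 0, 4, 2, 0, 0] 0, .B 3 3 [0, 3, 3, 0, 4, 2, 0, 0] 4, .B 3 3 [2, 3, 4, 0, 4, 2, 0, 0] 0,
  .B 1 2 [0, 0, 0, 3, 2, 1, 0, 0] 3, .B 1 2 [0, 0, 0, 3, 2, 1, 0, 0] 3, .A 1 3 4 5, .A 1 3 4 5, .A 2 3 4 5,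
  .A 0 2 3 4, .A 1 3 4 5, .A 0 2 3 1, .B 5 3 [0, 0, 0, 0, 0, 0, 4, 2] 6, .B 5 3 [0, 0, 0, 0, 0, 0, 4, 2] 6,
  .B 5 3 [0, 0, 0, 0, 0, 0, 4, 2] 6, .B 5 3 [0, 0, 0, 0, 0, 0, 4, 2] 6, .B 5 3 [0, 0, 0, 0, 0, 0, 4, 2] 6,
  .B 3 3 [2, 0, 4, 0, 0, 0, 0, 0] 0, .B 5 3 [0, 0, 0, 0, 0, 0, 4, 2] 6, .B 3 3 [2, 3, 4, 0, 0, 0, 0, 0] 0,
  .B 5 3 [0, 0, 0, 0, 0, 0, 4, 2] 6, .B 5 3 [0, 0, 0, 0, 0, 0, 4, 2] 6, .B 2 3 [0, 2, 0, 4, 0, 0, 0, 0] 1,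
  .B 2 3 [3, 2, 0, 4, 0, 0, 0, 0] 1, .B 0 3 [0, 0, 4, 2, 0, 0, 0, 0] 2, .B 1 2 [1, 0, 2, 3, 0, 0, 0, 0] 0,
  .B 0 2 [0, 1, 3, 2, 0, 0, 0, 0] 1, .A 0 2 3 1, .B 5 3 [0, 0, 0, 0, 3, 0, 4, 2] 6,
  .B 5 3 [0, 0, 0, 0, 3, 0, 4, 2] 6, .B 5 3 [0, 0, 0, 0, 3, 0, 4, 2] 6, .B 5 3 [0, 0, 0, 0, 3, 0, 4, 2] 6,
  .B 5 3 [0, 0, 0, 0, 3, 0, 4, 2] 6, .B 3 3 [2, 0, 4, 0, 3, 0, 0, 0] 0, .B 5 3 [0, 0, 0, 0, 3, 0, 4, 2] 6,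
  .B 3 3 [2, 3, 4, 0, 3, 0, 0, 0] 0, .B 1 3 [0, 0, 0, 4, 2, 0, 0, 0] 3, .B 1 3 [0, 0, 0, 4, 2, 0, 0, 0] 3,
  .B 5 6 [0, 3, 0, 6, 9, 0, 8, 4] 1, .B 5 6 [0, 3, 0, 6, 9, 0, 8, 4] 1, .B 0 2 [0, 0, 3, 2, 1, 0, 0, 0] 2,
  .A 0 2 3 4, .B 5 3 [0, 3, 3, 6, 6, 0, 4, 2] 6, .A 0 2 3 1, .B 4 2 [0, 0, 0, 0, 0, 3, 2, 1] 5,
  .B 4 2 [0, 0, 0, 0, 0, 3, 2, 1] 5, .B 4 2 [0, 0, 0, 0, 0, 3, 2, 1] 5, .B 4 2 [0, 0, 0, 0, 0, 3, 2, 1] 5,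
  .B 4 2 [0, 0, 0, 0, 0, 3, 2, 1] 5, .B 3 3 [2, 0, 4, 0, 0, 0, 0, 0] 0, .B 4 2 [0, 0, 0, 0, 0, 3, 2, 1] 5,
  .B 3 3 [2, 3, 4, 0, 0, 0, 0, 0] 0, .B 4 2 [0, 0, 0, 2, 0, 3, 2, 1] 5, .B 4 2 [0, 0, 0, 2, 0, 3, 2, 1] 5,
  .B 2 3 [0, 2, 0, 4, 0, 0, 0, 0] 1, .B 2 3 [3, 2, 0, 4, 0, 0, 0, 0] 1, .B 0 3 [0, 0, 4, 2, 0, 0, 0, 0] 2,
  .B 1 2 [1, 0, 2, 3, 0, 0, 0, 0] 0, .B 0 2 [0, 1, 3, 2, 0, 0, 0, 0] 1, .A 0 2 3 1, .A 4 5 6 7, .A 4 5 6 7,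
  .A 4 5 6 7, .A 4 5 6 7, .A 4 5 6 7, .A 4 5 6 7, .A 4 5 6 7, .A 4 5 6 7, .A 3 4 5 6, .A 3 4 5 6, .A 1 3 4 5,
  .A 1 3 4 5, .A 2 3 4 5, .A 0 2 3 4, .A 1 3 4 5, .A 0 2 3 1]

/-- the Cartan matrix -/
def AE : Fin 8 → Fin 8 → ℤ := ![![2, 0, -1, 0, 0, 0, 0, 0], ![0, 2, 0, -1, 0, 0, 0, 0], ![-1, 0, 2, -1, 0, 0, 0, 0],
  ![0, -1, -1, 2, -1, 0, 0, 0], ![0, 0, 0, -1, 2, -1, 0, 0], ![0, 0, 0, 0, -1, 2, -1, 0], ![0, 0, 0, 0, 0, -1, 2, -1],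
  ![0, 0, 0, 0, 0, 0, -1, 2]]

theorem AE_eq : ∀ i j : Fin 8, cartanOf chevE8 8 i j = AE i j := by decide +kernel

/-- vector of a list -/
def lv (l : List ℤ) (k : Fin 8) : ℤ := l.getD k 0

/-- vector of a list, plus the unit vector -/
def lw (l : List ℤ) (i k : Fin 8) : ℤ := (if k = i then 1 else 0) + 2 * l.getD k 0

/-- certificates -/
def Cert (m : ℕ) (j : Fin 8) (d : ℤ) (r : Fin 8 → ℤ) : Prop :=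
  (∀ i : Fin 8, m.testBit i = false → r i = 0) ∧ ∀ i : Fin 8, m.testBit i = true →
    AE i 0 * r 0 + AE i 1 * r 1 + AE i 2 * r 2 + AE i 3 * r 3 + AE i 4 * r 4 + AE i 5 * r 5 + AE i 6 * r 6 +
      AE i 7 * r 7 = -2 * d * AE i j

instance (m : ℕ) (j : Fin 8) (d : ℤ) (r : Fin 8 → ℤ) : Decidable (Cert m j d r) := by unfold Cert; infer_instance

/-- validity of a witness -/
def Ok (m : ℕ) : Wt → Prop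
  | .A p q r s => m.testBit p = true ∧ m.testBit q = true ∧ m.testBit r = true ∧ m.testBit s = true ∧
      AE q p = -1 ∧ AE r p = 0 ∧ AE s p = 0 ∧ AE r q = -1 ∧ AE s q = 0 ∧ AE s r = -1
  | .B j d r i => Cert m j d (lv r) ∧ ¬ d ∣ lv r i
  | .C j r i => Cert m j 1 (lw r i) ∧ m.testBit i = true
  | .Z => m = 0 ∨ m = 30

instance (m : ℕ) (w : Wt) : Decidable (Ok m w) := by cases w <;> (unfold Ok; infer_instance)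

theorem ok_all : ∀ m < 256, Ok m (tab.getD m .Z) := by decide +kernel

theorem ok_d4 : ∀ j : Fin 8, 30 ≤ 30 ∧ Cert 30 j 1 (d4 j) := by decide +kernel

theorem bits : ∀ b0 b1 b2 b3 b4 b5 b6 b7 : Bool, ∃ m < 256, ∀ i : Fin 8,
    Nat.testBit m i = ![b0, b1, b2, b3, b4, b5, b6, b7] i := by
  intro b0 b1 b2 b3 b4 b5 b6 b7
  refine ⟨b0.toNat + 2 * b1.toNat + 4 * b2.toNat + 8 * b3.toNat + 16 * b4.toNat + 32 * b5.toNat + 64 * b6.toNat +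
    128 * b7.toNat, ?_, ?_⟩ <;>
    (revert b0 b1 b2 b3 b4 b5 b6 b7; decide +kernel)

theorem exists_mask (J : Fin 8 → Bool) : ∃ m < 256, ∀ i : Fin 8, Nat.testBit m i = J i := by
  obtain ⟨m, hm, h⟩ := bits (J 0) (J 1) (J 2) (J 3) (J 4) (J 5) (J 6) (J 7)
  refine ⟨m, hm, fun i => (h i).trans ?_⟩
  fin_cases i <;> rfl

/-- ten sums on a path of four nodes -/
theorem path : ∀ x y z t x' y' z' t' : ZMod 2, ¬ ((x ≠ 0 ∨ x' ≠ 0) ∧ (y ≠ 0 ∨ y' ≠ 0) ∧ (z ≠ 0 ∨ z' ≠ 0) ∧ (t ≠ 0 ∨ t' ≠ 0) ∧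
    (x + y ≠ 0 ∨ x' + y' ≠ 0) ∧ (y + z ≠ 0 ∨ y' + z' ≠ 0) ∧ (z + t ≠ 0 ∨ z' + t' ≠ 0) ∧
    (x + y + z ≠ 0 ∨ x' + y' + z' ≠ 0) ∧ (y + z + t ≠ 0 ∨ y' + z' + t' ≠ 0) ∧
    (x + y + z + t ≠ 0 ∨ x' + y' + z' + t' ≠ 0)) := by decide +kernel

section

variable {l : ℕ} {M : CoxeterMatrix (Fin l)} {A : Fin l → Fin l → ℤ} (h : IsCartan M A)

/-- a root plus a simple root -/
theorem root_add {x : Fin l → ℤ} (hx : rt' h x) {i : Fin l} (hi : pairing A i x = -1) : rt' h (x + sr i) := by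
  have h1 := IsRoot.act (cs := M.toCoxeterSystem) (h := h) hx (M.toCoxeterSystem.simple i)
  rw [rep_simple_eq, hi] at h1
  simpa using h1

theorem pairing_sr (i j : Fin l) : pairing A i (sr j) = A i j := by
  have := pairing_single A i j 1
  rw [mul_one] at this
  exact this

end

theorem P3_of (hp : IsType chevE8 8 CoxeterMatrix.E₈) {w : CoxeterMatrix.E₈.Group} (P1 : ∀ (j : Fin 8) (d : ℤ) (r : Fin 8 → ℤ),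
      (∀ i, wv hp.isCartan w (sr i) ≠ -sr i → r i = 0) →
      (∀ i, wv hp.isCartan w (sr i) = -sr i → pairing (cartanOf chevE8 8) i r = -2 * d * cartanOf chevE8 8 i j) →
      d • (wv hp.isCartan w (sr j) - sr j) = r)
    (f g : (Fin 8 → ℤ) →+ ZMod 2) (hf : ∀ x, f (wv hp.isCartan w x) = f x) (hg : ∀ x, g (wv hp.isCartan w x) = g x)
    (hb : ∀ b, rt' hp.isCartan b → wv hp.isCartan w b = -b → f b ≠ 0 ∨ g b ≠ 0) :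
    w = 1 ∨ ∀ j, wv hp.isCartan w (sr j) = sr j + d4 j := by
  classical
  obtain ⟨m, hm, hJ⟩ := exists_mask fun i => decide (wv hp.isCartan w (sr i) = -sr i)
  have hJt : ∀ i : Fin 8, Nat.testBit m i = true ↔ wv hp.isCartan w (sr i) = -sr i := fun i => by
    rw [hJ i]; exact decide_eq_true_iff
  have hJf : ∀ i : Fin 8, Nat.testBit m i = false ↔ wv hp.isCartan w (sr i) ≠ -sr i := fun i => by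
    rw [hJ i]; exact decide_eq_false_iff_not
  -- certificates
  have cert : ∀ {j : Fin 8} {d : ℤ} {r : Fin 8 → ℤ}, Cert m j d r → d • (wv hp.isCartan w (sr j) - sr j) = r := by
    intro j d r hc
    refine P1 j d r (fun i hi => hc.1 i ((hJf i).2 hi)) fun i hi => ?_
    have h1 := hc.2 i ((hJt i).2 hi)
    rw [pairing, Fin.sum_univ_eight]
    simp only [AE_eq]
    exact h1
  have hok := ok_all m hm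
  revert hok
  generalize tab.getD m .Z = W
  intro hok
  cases W with
  | A p q r s =>
    exfalso
    obtain ⟨mp, mq, mr, ms, qp, rp, sp, rq, sq, sr'⟩ := hok
    rw [hJt] at mp mq mr ms
    have R : ∀ {x : Fin 8 → ℤ} (i : Fin 8), rt' hp.isCartan x → pairing (cartanOf chevE8 8) i x = -1 →
        rt' hp.isCartan (x + sr i) := fun i hx hi => root_add hp.isCartan hx hi
    have P : ∀ i j : Fin 8, pairing (cartanOf chevE8 8) i (sr j) = AE i j := fun i j => by rw [pairing_sr, AE_eq]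
    have N : ∀ x y : Fin 8 → ℤ, wv hp.isCartan w x = -x → wv hp.isCartan w y = -y →
        wv hp.isCartan w (x + y) = -(x + y) := by
      intro x y hx hy
      show rep _ _ _ _ = _
      rw [map_add, neg_add]
      exact congrArg₂ _ hx hy
    have S : ∀ i : Fin 8, rt' hp.isCartan (sr i) := fun i => isRoot_sr CoxeterMatrix.E₈.toCoxeterSystem hp.isCartan i
    have r1 := R q (S p) (by rw [P, qp])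
    have r2 := R r (S q) (by rw [P, rq])
    have r3 := R s (S r) (by rw [P, sr'])
    have r4 := R r r1 (by rw [pairing_add, P, P, rp, rq]; norm_num)
    have r5 := R s r2 (by rw [pairing_add, P, P, sq, sr']; norm_num)
    have r6 := R s r4 (by rw [pairing_add, pairing_add, P, P, P, sp, sq, sr']; norm_num)
    have h1 := hb _ (S p) mp
    have h2 := hb _ (S q) mq
    have h3 := hb _ (S r) mr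
    have h4 := hb _ (S s) ms
    have h5 := hb _ r1 (N _ _ mp mq)
    have h6 := hb _ r2 (N _ _ mq mr)
    have h7 := hb _ r3 (N _ _ mr ms)
    have h8 := hb _ r4 (N _ _ (N _ _ mp mq) mr)
    have h9 := hb _ r5 (N _ _ (N _ _ mq mr) ms)
    have h10 := hb _ r6 (N _ _ (N _ _ (N _ _ mp mq) mr) ms)
    simp only [map_add] at h5 h6 h7 h8 h9 h10
    exact path _ _ _ _ _ _ _ _ ⟨h1, h2, h3, h4, h5, h6, h7, h8, h9, h10⟩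
  | B j d r i =>
    exfalso
    obtain ⟨hc, hd⟩ := hok
    apply hd
    rw [← cert hc]
    exact Dvd.intro _ rfl
  | C j r i =>
    exfalso
    obtain ⟨hc, hi⟩ := hok
    have h1 := cert hc
    rw [one_smul] at h1
    have h2 : lw r i = sr i + ((fun k : Fin 8 => r.getD k 0) + fun k : Fin 8 => r.getD k 0) := by
      funext k
      show (if k = i then 1 else 0) + 2 * r.getD k 0 = sr i k + (r.getD k 0 + r.getD k 0)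
      rw [two_mul]
      congr 1
      by_cases hk : k = i
      · rw [if_pos hk, hk, sr_self]
      · rw [if_neg hk, sr_ne hk]
    have key : ∀ f : (Fin 8 → ℤ) →+ ZMod 2, (∀ x, f (wv hp.isCartan w x) = f x) → f (sr i) = 0 := by
      intro f hf
      have h3 : f (lw r i) = 0 := by rw [← h1, map_sub, hf, sub_self]
      rw [h2, map_add, map_add, CharTwo.add_self_eq_zero, add_zero] at h3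
      exact h3
    rcases hb _ (isRoot_sr CoxeterMatrix.E₈.toCoxeterSystem hp.isCartan i) ((hJt i).1 hi) with h3 | h3
    · exact h3 (key f hf)
    · exact h3 (key g hg)
  | Z =>
    rcases hok with rfl | rfl
    · left
      refine eq_one_of_fix CoxeterMatrix.E₈.toCoxeterSystem hp.isCartan w fun j => ?_
      have h1 := P1 j 1 0 (fun i _ => rfl) (fun i hi => absurd ((hJt i).2 hi) (by simp))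
      rw [one_smul] at h1
      exact sub_eq_zero.1 h1
    · right
      intro j
      have h1 := cert (ok_d4 j).2
      rw [one_smul] at h1
      rw [← h1]
      abel

/-- **P3** -/
theorem P3 (hp : IsType chevE8 8 CoxeterMatrix.E₈) {w : CoxeterMatrix.E₈.Group} (hw : Res hp.isCartan w)
    (f g : (Fin 8 → ℤ) →+ ZMod 2) (hf : ∀ x, f (wv hp.isCartan w x) = f x) (hg : ∀ x, g (wv hp.isCartan w x) = g x)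
    (hb : ∀ b, rt' hp.isCartan b → wv hp.isCartan w b = -b → f b ≠ 0 ∨ g b ≠ 0) :
    w = 1 ∨ ∀ j, wv hp.isCartan w (sr j) = sr j + d4 j := by
  have hfin : Finite CoxeterMatrix.E₈.Group := Cfsg.Agent.Nodes.TyCox.finiteE8 CoxeterMatrix.E₈.toCoxeterSystem
  exact P3_of hp (Cfsg.Agent.H798.KKL.P1 hp.isCartan hw) f g hf hg hb

end Cfsg.Agent.H387.KKL
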