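import Cfsg.Agent.H348.KKL.PSixA
import Cfsg.Agent.H798.KKL.P1

/-!
# S4546, row `E₈(q)`, box P4b (helper387): the roots orthogonal to the `D₄`

Pairs of involutions of the torus are pairs of masks `b, b' < 256`; finite check.
-/

set_option autoImplicit false
set_option maxRecDepth 100000
set_option linter.unusedSectionVars false

namespace Cfsg.Agent.H387.KKL

open CoxeterSystem Cfsg Cfsg.Lie Cfsg.Lie.ChevalleyDatum
open Cfsg.Agent.ChevalleyStructure Cfsg.Agent.ChevalleyStructure.Elts Cfsg.Agent.ChevalleyStructure.CoxeterGeom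
  Cfsg.Agent.ChevalleyStructure.CoxeterGeomTypes Cfsg.Agent.ChevalleyStructure.NPerm
  Cfsg.Agent.ChevalleyStructure.RootVec
open Cfsg.Agent.Tits.Roots Cfsg.Agent.Tits.Core Cfsg.Agent.Nodes Cfsg.Agent.Nodes.Reps Cfsg.Agent.Nodes.BNOf
  Cfsg.Agent.Nodes.RGDChev Cfsg.Agent.Nodes.Bruhat Cfsg.Agent.Nodes.NormalForm
open Cfsg.Agent.KFacts.RgdField Cfsg.Agent.KFacts.RgdChevCoord
open Cfsg.Agent.BpExc Cfsg.Agent.BpExc.TorCent Cfsg.Agent.BpExc.TorChev Cfsg.Agent.BpExc.Tow
  Cfsg.Agent.BpExc.TowChev Cfsg.Agent.BpExc.Fr Cfsg.Agent.BpExc.Pair Cfsg.Agent.BpExc.LangFr Cfsg.Agent.GpExc.Field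
open Cfsg.Agent.H469.Exc Cfsg.Agent.H129.TorusChar Cfsg.Agent.H892.El Cfsg.Agent.H167.KKL Cfsg.Agent.H348.KKL.E8R

universe u

/-! ### the finite checks -/

/-- parity table -/
def PT : ℕ := 47758914269546354982683078068829456704164423862093743397580034411621752859030
/-- masks of trace -8 -/
def QT : ℕ := 106676786139643899365009106874957275224909715679428915318198427558243339801638
/-- the roots of `D₄` modulo 2 -/
def D4M : List ℕ := [2, 4, 8, 10, 12, 14, 16, 22, 24, 26, 28, 30]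
/-- the roots orthogonal to `D₄` modulo 2 -/
def FM : List ℕ := [64, 70, 82, 84, 128, 134, 146, 148, 192, 198, 210, 212]

set_option backward.isDefEq.respectTransparency false in
theorem l0 : trN chevE8 8 0 = 248 := by decide +kernel

set_option backward.isDefEq.respectTransparency false in
theorem l1_0 : ∀ b < 32, trN chevE8 8 (b + 0) = -8 → QT.testBit (b + 0) = true := by decide +kernel

set_option backward.isDefEq.respectTransparency false in
theorem l1_1 : ∀ b < 32, trN chevE8 8 (b + 32) = -8 → QT.testBit (b + 32) = true := by decide +kernel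

set_option backward.isDefEq.respectTransparency false in
theorem l1_2 : ∀ b < 32, trN chevE8 8 (b + 64) = -8 → QT.testBit (b + 64) = true := by decide +kernel

set_option backward.isDefEq.respectTransparency false in
theorem l1_3 : ∀ b < 32, trN chevE8 8 (b + 96) = -8 → QT.testBit (b + 96) = true := by decide +kernel

set_option backward.isDefEq.respectTransparency false in
theorem l1_4 : ∀ b < 32, trN chevE8 8 (b + 128) = -8 → QT.testBit (b + 128) = true := by decide +kernel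

set_option backward.isDefEq.respectTransparency false in
theorem l1_5 : ∀ b < 32, trN chevE8 8 (b + 160) = -8 → QT.testBit (b + 160) = true := by decide +kernel

set_option backward.isDefEq.respectTransparency false in
theorem l1_6 : ∀ b < 32, trN chevE8 8 (b + 192) = -8 → QT.testBit (b + 192) = true := by decide +kernel

set_option backward.isDefEq.respectTransparency false in
theorem l1_7 : ∀ b < 32, trN chevE8 8 (b + 224) = -8 → QT.testBit (b + 224) = true := by decide +kernel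

theorem l1 : ∀ b < 256, trN chevE8 8 b = -8 → QT.testBit b = true := by
  intro b hb
  have h : ∀ c, c ≤ b → b < c + 32 → (∀ b < 32, trN chevE8 8 (b + c) = -8 → QT.testBit (b + c) = true) →
      trN chevE8 8 b = -8 → QT.testBit b = true := by
    intro c hc hc' H
    have e := H (b - c) (by omega)
    rwa [Nat.sub_add_cancel hc] at e
  rcases lt_or_ge b 32 with h0 | h0
  · exact h 0 (by omega) (by omega) l1_0
  rcases lt_or_ge b 64 with h1 | h1
  · exact h 32 (by omega) (by omega) l1_1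
  rcases lt_or_ge b 96 with h2 | h2
  · exact h 64 (by omega) (by omega) l1_2
  rcases lt_or_ge b 128 with h3 | h3
  · exact h 96 (by omega) (by omega) l1_3
  rcases lt_or_ge b 160 with h4 | h4
  · exact h 128 (by omega) (by omega) l1_4
  rcases lt_or_ge b 192 with h5 | h5
  · exact h 160 (by omega) (by omega) l1_5
  rcases lt_or_ge b 224 with h6 | h6
  · exact h 192 (by omega) (by omega) l1_6
  exact h 224 (by omega) (by omega) l1_7

/-- a root of `D₄` -/
def Dr (r : ℕ) : Prop := rt chevE8 r 0 = 0 ∧ rt chevE8 r 5 = 0 ∧ rt chevE8 r 6 = 0 ∧ rt chevE8 r 7 = 0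

instance (r : ℕ) : Decidable (Dr r) := by unfold Dr; infer_instance

/-- a root orthogonal to `D₄` -/
def Fr' (r : ℕ) : Prop := rt chevE8 r 0 - 2 * rt chevE8 r 1 + rt chevE8 r 5 = 0 ∧
  2 * rt chevE8 r 0 - 2 * rt chevE8 r 2 + rt chevE8 r 5 = 0 ∧ 2 * rt chevE8 r 0 - 2 * rt chevE8 r 3 + 2 * rt chevE8 r 5 = 0 ∧
  rt chevE8 r 0 - 2 * rt chevE8 r 4 + 2 * rt chevE8 r 5 = 0

instance (r : ℕ) : Decidable (Fr' r) := by unfold Fr'; infer_instance

set_option backward.isDefEq.respectTransparency false in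
theorem l2 : ∀ μ ∈ D4M, ∃ r < 240, Dr r ∧ ∀ b < 256, pr chevE8 8 b r % 2 ≠ 0 → PT.testBit (b &&& μ) = true := by
  decide +kernel

set_option backward.isDefEq.respectTransparency false in
theorem l3 : ∀ r < 240, Fr' r → ∃ μ ∈ FM, ∀ b < 256, PT.testBit (b &&& μ) = true → pr chevE8 8 b r % 2 ≠ 0 := by
  decide +kernel

theorem nr : chevE8.nroots = 240 := by decide +kernel

/-- the pairs -/
def chk (b c : ℕ) : Bool :=
  !(QT.testBit c) || !(QT.testBit (b ^^^ c)) || !(D4M.all fun μ => PT.testBit (b &&& μ) || PT.testBit (c &&& μ)) ||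
    FM.all fun μ => PT.testBit (b &&& μ) || PT.testBit (c &&& μ)

theorem l4 : ∀ b < 256, QT.testBit b = true → ∀ c < 256, chk b c = true := by decide +kernel

theorem l4' {b c : ℕ} (hb : b < 256) (hc : c < 256) (h1 : QT.testBit b = true) (h2 : QT.testBit c = true)
    (h3 : QT.testBit (b ^^^ c) = true)
    (h4 : ∀ μ ∈ D4M, PT.testBit (b &&& μ) = true ∨ PT.testBit (c &&& μ) = true) :
    ∀ μ ∈ FM, PT.testBit (b &&& μ) = true ∨ PT.testBit (c &&& μ) = true := by
  have h5 := l4 b hb h1 c hc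
  unfold chk at h5
  rw [h2, h3] at h5
  have h6 : (D4M.all fun μ => PT.testBit (b &&& μ) || PT.testBit (c &&& μ)) = true := by
    rw [List.all_eq_true]
    intro μ hμ
    rw [Bool.or_eq_true]
    exact h4 μ hμ
  rw [h6] at h5
  simp only [Bool.not_true, Bool.false_or] at h5
  intro μ hμ
  have h7 := List.all_eq_true.1 h5 μ hμ
  rwa [Bool.or_eq_true] at h7

/-! ### the action of `w` -/

theorem wv_eq (hp : IsType chevE8 8 CoxeterMatrix.E₈) {w : CoxeterMatrix.E₈.Group}
    (hw : ∀ j, wv hp.isCartan w (sr j) = sr j + d4 j) (x : Fin 8 → ℤ) (i : Fin 8) :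
    wv hp.isCartan w x i = x i + ∑ j, x j * d4 j i := by
  have h1 : wv hp.isCartan w x = x + ∑ j, x j • d4 j := by
    conv_lhs => rw [Cfsg.Agent.H798.KKL.eq_sum_sr x]
    show rep _ _ _ _ = _
    rw [map_sum]
    have h2 : ∀ j, rep CoxeterMatrix.E₈.toCoxeterSystem hp.isCartan w (x j • sr j) = x j • sr j + x j • d4 j := by
      intro j
      rw [map_smul, ← smul_add]
      exact congrArg _ (hw j)
    rw [Finset.sum_congr rfl fun j _ => h2 j, Finset.sum_add_distrib, ← Cfsg.Agent.H798.KKL.eq_sum_sr x]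
  rw [h1, Pi.add_apply, Finset.sum_apply]
  rfl

theorem neg_of_Dr (hp : IsType chevE8 8 CoxeterMatrix.E₈) {w : CoxeterMatrix.E₈.Group}
    (hw : ∀ j, wv hp.isCartan w (sr j) = sr j + d4 j) {r : ℕ} (hr : Dr r) :
    wv hp.isCartan w (vec chevE8 8 r) = -vec chevE8 8 r := by
  obtain ⟨h0, h5, h6, h7⟩ := hr
  have e0 : vec chevE8 8 r 0 = 0 := h0
  have e5 : vec chevE8 8 r 5 = 0 := h5
  have e6 : vec chevE8 8 r 6 = 0 := h6
  have e7 : vec chevE8 8 r 7 = 0 := h7
  funext i
  rw [wv_eq hp hw, Fin.sum_univ_eight, Pi.neg_apply, e0, e5, e6, e7]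
  fin_cases i <;> simp [d4, e0, e5, e6, e7] <;> ring

theorem Fr_of (hp : IsType chevE8 8 CoxeterMatrix.E₈) {w : CoxeterMatrix.E₈.Group}
    (hw : ∀ j, wv hp.isCartan w (sr j) = sr j + d4 j) {r : ℕ}
    (h : wv hp.isCartan w (vec chevE8 8 r) = vec chevE8 8 r) : Fr' r := by
  have key : ∀ i, ∑ j, vec chevE8 8 r j * d4 j i = 0 := by
    intro i
    have h1 := congrFun h i
    rw [wv_eq hp hw] at h1
    linarith
  have k1 := key 1
  have k2 := key 2
  have k3 := key 3
  have k4 := key 4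
  rw [Fin.sum_univ_eight] at k1 k2 k3 k4
  simp [d4] at k1 k2 k3 k4
  have e : ∀ i : Fin 8, vec chevE8 8 r i = rt chevE8 r i := fun i => rfl
  simp only [e] at k1 k2 k3 k4
  refine ⟨?_, ?_, ?_, ?_⟩
  · have := k1; norm_num at this ⊢; linarith
  · have := k2; norm_num at this ⊢; linarith
  · have := k3; norm_num at this ⊢; linarith
  · have := k4; norm_num at this ⊢; linarith

section

variable (hp : IsType chevE8 8 CoxeterMatrix.E₈) {k : Type u} [Field k] (h2 : (2 : k) ≠ 0)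
include h2

theorem pow_ne_zero_two (n : ℕ) : ((2 : k) ^ n) ≠ 0 := pow_ne_zero n h2

theorem ne_one_iff (n : ℤ) : (-1 : k) ^ n ≠ 1 ↔ n % 2 ≠ 0 := by
  rw [neg_one_zpow_eq]
  split_ifs with h
  · simp [h]
  · simp only [Int.cast_neg, Int.cast_one, ne_eq, h, not_false_iff, iff_true]
    intro h3
    apply h2
    have h4 : (1 : k) + 1 = 1 + -1 := by rw [h3]
    rw [add_neg_cancel] at h4
    rw [← h4]; norm_num

/-- an involution of trace `-8` -/
theorem mask_of {z : ↥(chevE8.group k)} (hz : z ∈ TT chevE8 k) (h1 : z * z = 1) (t : trL chevE8 z = -8) :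
    ∃ b < 256, QT.testBit b = true ∧ (∀ i : Fin 8, ch hp (sr i) z = if b.testBit i then -1 else 1) ∧
      ∀ r < 240, (ch hp (vec chevE8 8 r) z ≠ 1 ↔ pr chevE8 8 b r % 2 ≠ 0) := by
  obtain ⟨b, hb, hb0, hbr⟩ := exists_bits hp hz h1
  have e := trL_TT hp hz hbr
  have e' : trL chevE8 z = (trN chevE8 8 b : k) := e
  rw [t] at e'
  refine ⟨b, hb, ?_, hb0, fun r hr => ?_⟩
  · rcases trN_E8 b hb with h | h | h
    · exfalso
      rw [h, l0] at e'
      apply pow_ne_zero_two h2 8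
      have : (2 : k) ^ 8 = ((248 : ℤ) : k) + 8 := by norm_num
      rw [this, ← e']
      norm_num
    · exfalso
      rw [h] at e'
      apply pow_ne_zero_two h2 5
      have : (2 : k) ^ 5 = ((24 : ℤ) : k) + 8 := by norm_num
      rw [this, ← e']
      norm_num
    · exact l1 b hb h
  · rw [hbr r (by rw [nr]; exact hr)]
    exact ne_one_iff h2 _

theorem P4b_of {w : CoxeterMatrix.E₈.Group} (hw : ∀ j, wv hp.isCartan w (sr j) = sr j + d4 j)
    {z z' : ↥(chevE8.group k)} (hz : z ∈ TT chevE8 k) (hz' : z' ∈ TT chevE8 k) (h1 : z * z = 1) (h1' : z' * z' = 1)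
    (hb : ∀ b, rt' hp.isCartan b → wv hp.isCartan w b = -b → ch hp b z ≠ 1 ∨ ch hp b z' ≠ 1)
    (t1 : trL chevE8 z = -8) (t2 : trL chevE8 z' = -8) (t3 : trL chevE8 (z * z') = -8) :
    ∀ b, rt' hp.isCartan b → wv hp.isCartan w b = b → ch hp b z ≠ 1 ∨ ch hp b z' ≠ 1 := by
  obtain ⟨b, hb1, hbQ, hbs, hbr⟩ := mask_of hp h2 hz h1 t1
  obtain ⟨c, hc1, hcQ, hcs, hcr⟩ := mask_of hp h2 hz' h1' t2
  -- commuting
  have hcomm : z * z' = z' * z := by
    refine cX_inj hp (mul_mem hz hz') (mul_mem hz' hz) fun i => ?_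
    rw [cX_mul hp hz hz', cX_mul hp hz' hz, mul_comm]
  have h3 : z * z' * (z * z') = 1 := by
    calc z * z' * (z * z') = z * (z' * z) * z' := by group
      _ = z * (z * z') * z' := by rw [hcomm]
      _ = (z * z) * (z' * z') := by group
      _ = 1 := by rw [h1, h1', mul_one]
  obtain ⟨d, hd1, hdQ, hds, -⟩ := mask_of hp h2 (mul_mem hz hz') h3 t3
  have hm : (-1 : k) ≠ 1 := by
    have := (ne_one_iff h2 (1 : ℤ)).2 (by norm_num)
    rwa [zpow_one] at this
  have hd : d = b ^^^ c := by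
    refine Nat.eq_of_testBit_eq fun i => ?_
    rw [Nat.testBit_xor]
    by_cases hi : i < 8
    · have h4 := hds ⟨i, hi⟩
      rw [← cX_sr, cX_mul hp hz hz', cX_sr, cX_sr, hbs, hcs] at h4
      simp only [] at h4
      cases hbi : b.testBit i <;> cases hci : c.testBit i <;> cases hdi : d.testBit i <;>
        simp [hbi, hci, hdi, hm, hm.symm] at h4 ⊢
    · have hk : ∀ m < 256, m.testBit i = false := fun m hm' =>
        Nat.testBit_lt_two_pow (lt_of_lt_of_le hm' (by
          calc 256 = 2 ^ 8 := by norm_num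
            _ ≤ 2 ^ i := Nat.pow_le_pow_right (by norm_num) (by omega)))
      rw [hk b hb1, hk c hc1, hk d hd1]
      rfl
  rw [hd] at hdQ
  have h4 : ∀ μ ∈ D4M, PT.testBit (b &&& μ) = true ∨ PT.testBit (c &&& μ) = true := by
    intro μ hμ
    obtain ⟨r, hr, hDr, hr'⟩ := l2 μ hμ
    rcases hb _ (isRoot_vec hp CoxeterMatrix.E₈.toCoxeterSystem (r := r) (by rw [nr]; exact hr)) (neg_of_Dr hp hw hDr) with h5 | h5
    · exact Or.inl (hr' b hb1 ((hbr r hr).1 h5))
    · exact Or.inr (hr' c hc1 ((hcr r hr).1 h5))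
  have h6 := l4' hb1 hc1 hbQ hcQ hdQ h4
  intro x hx hwx
  obtain ⟨r, hr, rfl⟩ := (isRoot_iff hp CoxeterMatrix.E₈.toCoxeterSystem x).1 hx
  rw [nr] at hr
  obtain ⟨μ, hμ, hμ'⟩ := l3 r hr (Fr_of hp hw hwx)
  rcases h6 μ hμ with h7 | h7
  · exact Or.inl ((hbr r hr).2 (hμ' b hb1 h7))
  · exact Or.inr ((hcr r hr).2 (hμ' c hc1 h7))

omit h2 in
/-- the box `p4b` of `H167.KKL.BoxE8` -/
theorem P4b (p : ℕ) [Fact p.Prime] [CharP k p] (hp2 : p ≠ 2) : ∀ {w : CoxeterMatrix.E₈.Group}, (∀ j, wv hp.isCartan w (sr j) = sr j + d4 j) →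
    ∀ {z z' : ↥(chevE8.group k)}, z ∈ TT chevE8 k → z' ∈ TT chevE8 k → z * z = 1 → z' * z' = 1 →
    (∀ b, rt' hp.isCartan b → wv hp.isCartan w b = -b → ch hp b z ≠ 1 ∨ ch hp b z' ≠ 1) →
    trL chevE8 z = -8 → trL chevE8 z' = -8 → trL chevE8 (z * z') = -8 →
    ∀ b, rt' hp.isCartan b → wv hp.isCartan w b = b → ch hp b z ≠ 1 ∨ ch hp b z' ≠ 1 := by
  have h2 : (2 : k) ≠ 0 := by
    intro h
    have h1 : ((2 : ℕ) : k) = 0 := by exact_mod_cast h
    rw [CharP.cast_eq_zero_iff k p] at h1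
    exact hp2 ((Nat.prime_dvd_prime_iff_eq (Fact.out : p.Prime) Nat.prime_two).1 h1)
  intro w hw z z' hz hz' h1 h1' hb t1 t2 t3
  exact P4b_of hp h2 hw hz hz' h1 h1' hb t1 t2 t3

end

end Cfsg.Agent.H387.KKL
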